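import Groth.Prelude.Def_EGA4b
import Groth.Agent.S6278
import Groth.Agent.Lib.NormalBC6.Criterion
import Groth.Agent.Lib.NormalBC6.Union
import Groth.Agent.Lib.NormRed18.Basic
import Groth.Agent.Lib.GRing6.ReducedCpl
import Mathlib

/-!
# Descending normality from an overring along a flat base change
-/

set_option autoImplicit false
set_option linter.style.haveILetI false
universe u

open TensorProduct

namespace Groth.Agent.NormCpl19

/-- A finite torsion-free module over a reduced Noetherian ring embeds in a free module. -/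
theorem exists_embedding_pi (B : Type u) [CommRing B] [IsNoetherianRing B] [IsReduced B]
    (M : Type u) [AddCommGroup M] [Module B M] [Module.Finite B M]
    (h : ∀ s ∈ nonZeroDivisors B, ∀ m : M, s • m = 0 → m = 0) :
    ∃ (n : ℕ) (ψ : M →ₗ[B] (Fin n → B)), Function.Injective ψ := by
  classical
  let K := Localization (nonZeroDivisors B)
  haveI : IsArtinianRing K := NormRed18.isArtinianRing_fractionRing B
  haveI : IsReduced K := isReduced_localizationPreserves (nonZeroDivisors B) K ‹_›
  haveI : IsSemisimpleRing K := IsArtinianRing.isSemisimpleRing_of_isReduced K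
  let N := LocalizedModule (nonZeroDivisors B) M
  let o : M →ₗ[B] N := LocalizedModule.mkLinearMap (nonZeroDivisors B) M
  haveI : Module.Finite K N := Module.Finite.of_isLocalizedModule (nonZeroDivisors B) o
  haveI : Module.Projective K N := Module.projective_of_isSemisimpleRing K N
  obtain ⟨n, -, g, -, hg, -⟩ := Module.Finite.exists_comp_eq_id_of_projective K N
  have ho : Function.Injective o := by
    refine (injective_iff_map_eq_zero o).2 fun m hm => ?_
    obtain ⟨s, hs⟩ := (IsLocalizedModule.eq_zero_iff (nonZeroDivisors B) o).1 hm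
    exact h s s.2 m hs
  let j : M →ₗ[B] (Fin n → K) := (g.restrictScalars B).comp o
  have hj : Function.Injective j := hg.comp ho
  obtain ⟨G, hG⟩ := (Module.Finite.fg_top : (⊤ : Submodule B M).FG)
  obtain ⟨s, hs⟩ := IsLocalization.exist_integer_multiples_of_finset (nonZeroDivisors B)
    ((G ×ˢ (Finset.univ : Finset (Fin n))).image fun p => j p.1 p.2)
  let ι : (Fin n → B) →ₗ[B] (Fin n → K) := LinearMap.compLeft (Algebra.linearMap B K) (Fin n)
  have hι : Function.Injective ι := fun a b hab => funext fun i =>
    IsFractionRing.injective B K (congrFun hab i)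
  have hmem : ∀ m, ((s : B) • j) m ∈ LinearMap.range ι := by
    intro m
    have : (⊤ : Submodule B M) ≤ (LinearMap.range ι).comap ((s : B) • j) := by
      rw [← hG, Submodule.span_le]
      intro x hx
      choose b hb using fun i => hs (j x i) (Finset.mem_image.2 ⟨(x, i), Finset.mem_product.2 ⟨hx, Finset.mem_univ i⟩, rfl⟩)
      exact ⟨b, funext hb⟩
    exact this trivial
  refine ⟨n, (LinearEquiv.ofInjective ι hι).symm.toLinearMap.comp (((s : B) • j).codRestrict _ hmem),
    (LinearEquiv.ofInjective ι hι).symm.injective.comp fun a b hab => hj ?_⟩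
  have h1 : (s : B) • j a = (s : B) • j b := congrArg Subtype.val hab
  funext i
  have h2 := congrFun h1 i
  simp only [Pi.smul_apply, Algebra.smul_def] at h2
  exact (IsLocalization.map_units K s).mul_left_cancel h2

/-- If `B ⊆ C` is finite, `B` normal, `B'` flat over `B` and `B' ⊗ C` normal, then `B'` is normal. -/
theorem isNormalRing_of_flat_of_finite (B : Type u) [CommRing B] [IsNoetherianRing B]
    (B' : Type u) [CommRing B'] [IsNoetherianRing B'] [Algebra B B'] [Module.Flat B B']
    (C : Type u) [CommRing C] [Algebra B C] [Module.Finite B C]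
    (hinj : Function.Injective (algebraMap B C))
    (hB : EGA4.IsNormalRing B) (hD : EGA4.IsNormalRing (B' ⊗[B] C)) : EGA4.IsNormalRing B' := by
  classical
  haveI : IsReduced B := FlatDepth.isReduced_of_isNormalRing B hB
  haveI : Module.Finite B' (B' ⊗[B] C) := inferInstance
  haveI : IsNoetherianRing (B' ⊗[B] C) := IsNoetherianRing.of_finite B' _
  have hl : Function.Injective (algebraMap B' (B' ⊗[B] C)) := by
    have h1 := Module.Flat.lTensor_preserves_injective_linearMap (M := B') (Algebra.linearMap B C) hinj
    intro a b hab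
    refine (TensorProduct.rid B B').symm.injective (h1 ?_)
    simpa using hab
  haveI : IsReduced (B' ⊗[B] C) := FlatDepth.isReduced_of_isNormalRing _ hD
  haveI : IsReduced B' := isReduced_of_injective _ hl
  haveI hred' : IsReduced (FractionRing B') := isReduced_localizationPreserves (nonZeroDivisors B') _ ‹_›
  haveI hart : IsArtinianRing (FractionRing B') := NormRed18.isArtinianRing_fractionRing B'
  -- the cokernel of `B → C` modulo torsion
  let U : Submodule B C :=
    { carrier := {c | ∃ s ∈ nonZeroDivisors B, ∃ b, s • c = algebraMap B C (s * b)}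
      zero_mem' := ⟨1, one_mem _, 0, by simp⟩
      add_mem' := by
        rintro x y ⟨s, hs, b, hb⟩ ⟨t, ht, d, hd⟩
        refine ⟨s * t, mul_mem hs ht, b + d, ?_⟩
        simp only [Algebra.smul_def, map_mul, map_add] at *
        linear_combination algebraMap B C t * hb + algebraMap B C s * hd
      smul_mem' := by
        rintro r x ⟨s, hs, b, hb⟩
        refine ⟨s, hs, r * b, ?_⟩
        simp only [Algebra.smul_def, map_mul] at *
        linear_combination algebraMap B C r * hb }
  have htf : ∀ w ∈ nonZeroDivisors B, ∀ m : C ⧸ U, w • m = 0 → m = 0 := by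
    intro w hw m hm
    obtain ⟨c, rfl⟩ := Submodule.Quotient.mk_surjective U m
    rw [← Submodule.Quotient.mk_smul, Submodule.Quotient.mk_eq_zero] at hm
    obtain ⟨s, hs, b, hb⟩ := hm
    rw [Submodule.Quotient.mk_eq_zero]
    have hsw : s * w ∈ nonZeroDivisors B := mul_mem hs hw
    let S : nonZeroDivisors B := ⟨s * w, hsw⟩
    let z : FractionRing B := IsLocalization.mk' (FractionRing B) (s * b) S
    obtain ⟨p, hp, hpc⟩ := (Algebra.IsIntegral.isIntegral c : IsIntegral B c)
    have hz : IsIntegral B z := by
      refine ⟨p, hp, ?_⟩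
      have hC : algebraMap B C (s * b) = algebraMap B C (s * w) * c := by
        rw [← hb, map_mul]; simp only [Algebra.smul_def]; ring
      have h0 : ∑ i ∈ Finset.range (p.natDegree + 1),
          p.coeff i * ((s * b) ^ i * (s * w) ^ (p.natDegree - i)) = 0 := by
        apply hinj
        rw [map_sum, map_zero, ← mul_zero (algebraMap B C (s * w) ^ p.natDegree), ← hpc, Polynomial.eval₂_eq_sum_range,
          Finset.mul_sum]
        refine Finset.sum_congr rfl fun i hi => ?_
        rw [map_mul, map_mul, map_pow, map_pow, hC]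
        have hin : i ≤ p.natDegree := Nat.lt_succ_iff.1 (Finset.mem_range.1 hi)
        conv_rhs => rw [← Nat.sub_add_cancel hin, pow_add]
        ring
      have h1 := congrArg (algebraMap B (FractionRing B)) h0
      rw [map_zero, map_sum] at h1
      refine ((IsLocalization.map_units (FractionRing B) S).pow p.natDegree).mul_right_eq_zero.1 ?_
      rw [← h1, Polynomial.eval₂_eq_sum_range, Finset.mul_sum]
      refine Finset.sum_congr rfl fun i hi => ?_
      have e := IsLocalization.mk'_spec' (FractionRing B) (s * b) S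
      rw [map_mul _ (p.coeff i), map_mul _ ((s * b) ^ i), map_pow _ (s * b), map_pow _ (s * w), ← e]
      show algebraMap B (FractionRing B) (s * w) ^ _ * _ = _ * (((algebraMap B (FractionRing B) (s * w)) * z) ^ i * _)
      have hin : i ≤ p.natDegree := Nat.lt_succ_iff.1 (Finset.mem_range.1 hi)
      conv_lhs => rw [← Nat.sub_add_cancel hin, pow_add]
      ring
    obtain ⟨β, hβ⟩ := (S6278.result B hB).isIntegral_iff.1 hz
    have hβ' : s * b = s * w * β := by
      apply IsFractionRing.injective B (FractionRing B)
      rw [map_mul _ (s * w) β, hβ]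
      exact (IsLocalization.mk'_spec' (FractionRing B) (s * b) S).symm
    refine ⟨s * w, hsw, β, ?_⟩
    rw [← hβ', ← hb, mul_smul]
  obtain ⟨n, ψ, hψ⟩ := exists_embedding_pi B (C ⧸ U) htf
  refine NormalBC6.isNormalRing_of_exhausted (W := FractionRing B') (IsFractionRing.injective B' _) ?_
    fun _ => ⟨FractionRing B', inferInstance, RingHom.id _, inferInstance,
      NormalBC6.isNormalRing_of_artinian _, Function.injective_id, by simp⟩
  intro x hx
  obtain ⟨u, v, rfl⟩ := IsLocalization.exists_mk'_eq (nonZeroDivisors B') x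
  obtain ⟨p, hp, hpx⟩ := hx
  set d := p.natDegree with hd
  have h0 : ∑ i ∈ Finset.range (d + 1), p.coeff i * ((v : B') ^ (d - i) * u ^ i) = 0 := by
    apply IsFractionRing.injective B' (FractionRing B')
    rw [map_sum, map_zero, ← mul_zero (algebraMap B' (FractionRing B') v ^ d), ← hpx, Polynomial.eval₂_eq_sum_range,
      Finset.mul_sum, ← hd]
    refine Finset.sum_congr rfl fun i hi => ?_
    rw [map_mul, map_mul, map_pow, map_pow, ← IsLocalization.mk'_spec' (FractionRing B') u v]
    have hin : i ≤ d := Nat.lt_succ_iff.1 (Finset.mem_range.1 hi)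
    conv_rhs => rw [← Nat.sub_add_cancel hin, pow_add]
    ring
  rw [Finset.sum_range_succ, hd, hp.coeff_natDegree, ← hd, Nat.sub_self, pow_zero, one_mul, one_mul, add_comm] at h0
  let ι := algebraMap B' (B' ⊗[B] C)
  obtain ⟨ξ, hξ, -⟩ := NormalBC6.exists_mul_eq_of_intDiv (B' ⊗[B] C) hD (ι v) (ι u) d (fun i => ι (p.coeff i)) (by
    have := congrArg ι h0
    simp only [map_add, map_sum, map_mul, map_pow, map_zero, ← mul_assoc] at this
    exact this)
  -- `ξ` dies in `B' ⊗ (C ⧸ U)`
  let q := AlgebraTensorModule.lTensor B' B' U.mkQ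
  have hq1 : ∀ b' : B', q (ι b') = 0 := fun b' => by
    show b' ⊗ₜ[B] U.mkQ 1 = 0
    rw [show U.mkQ (1 : C) = 0 from (Submodule.Quotient.mk_eq_zero U).2 ⟨1, one_mem _, 1, by simp⟩, tmul_zero]
  have hξU : q ξ = 0 := by
    let Ψ := (TensorProduct.piScalarRight B B' B' (Fin n)).toLinearMap.comp (AlgebraTensorModule.lTensor B' B' ψ)
    have hΨ : Function.Injective Ψ := (TensorProduct.piScalarRight B B' B' (Fin n)).injective.comp
      (Module.Flat.lTensor_preserves_injective_linearMap ψ hψ)
    refine hΨ (funext fun i => ?_)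
    rw [map_zero, Pi.zero_apply]
    refine (mem_nonZeroDivisors_iff.1 v.2).1 _ ?_
    have h1 : (v : B') • q ξ = 0 := by
      rw [← map_smul, Algebra.smul_def, show algebraMap B' (B' ⊗[B] C) v * ξ = ι u from hξ, hq1]
    have h2 := congrFun (congrArg Ψ h1) i
    rwa [map_smul, map_zero, Pi.smul_apply, smul_eq_mul] at h2
  obtain ⟨t, ht⟩ := (lTensor_exact B' (LinearMap.exact_subtype_mkQ U) U.mkQ_surjective ξ).1 hξU
  obtain ⟨s, hs, β, hβ⟩ : ∃ s ∈ nonZeroDivisors B, ∃ β : B', s • ξ = ι (s • β) := by
    rw [← ht]
    clear ht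
    induction t using TensorProduct.induction_on with
    | zero => exact ⟨1, one_mem _, 0, by simp⟩
    | tmul b' c =>
      obtain ⟨s, hs, b, hb⟩ := c.2
      refine ⟨s, hs, b • b', ?_⟩
      show s • (b' ⊗ₜ[B] (c : C)) = (s • b • b') ⊗ₜ[B] (1 : C)
      rw [← tmul_smul, hb, Algebra.algebraMap_eq_smul_one, tmul_smul, smul_tmul', mul_smul]
    | add t t' ih ih' =>
      obtain ⟨s, hs, β, hβ⟩ := ih
      obtain ⟨s', hs', β', hβ'⟩ := ih'
      refine ⟨s * s', mul_mem hs hs', β + β', ?_⟩
      rw [map_add, smul_add, smul_add, map_add]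
      congr 1
      · rw [mul_comm s s', mul_smul, hβ, mul_smul]
        simp only [Algebra.smul_def, IsScalarTower.algebraMap_apply B B' (B' ⊗[B] C), map_mul, ι]
      · rw [mul_smul, hβ', mul_smul]
        simp only [Algebra.smul_def, IsScalarTower.algebraMap_apply B B' (B' ⊗[B] C), map_mul, ι]
  have hsB : ∀ y : B', s • y = 0 → y = 0 := by
    intro y hy
    have h1 := Module.Flat.lTensor_preserves_injective_linearMap (M := B') (LinearMap.mulLeft B s)
      (fun a b hab => mul_cancel_left_mem_nonZeroDivisors hs |>.1 hab)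
    refine (TensorProduct.rid B B').symm.injective (h1 ?_)
    simp only [TensorProduct.rid_symm_apply, zero_tmul, LinearMap.lTensor_tmul, map_zero, LinearMap.mulLeft_apply]
    rw [show s * 1 = s • (1 : B) from rfl, tmul_smul, smul_tmul', hy, zero_tmul]
  refine ⟨β, ?_⟩
  rw [IsLocalization.eq_mk'_iff_mul_eq, ← map_mul]
  congr 1
  refine sub_eq_zero.1 (hsB _ (hl ?_))
  rw [map_zero, smul_sub, map_sub, sub_eq_zero]
  calc ι (s • (β * (v : B'))) = ι v * (s • ξ) := by
        rw [hβ]
        simp only [Algebra.smul_def, map_mul, ι]; ring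
    _ = s • (ι v * ξ) := mul_smul_comm _ _ _
    _ = ι (s • u) := by
        rw [hξ]
        simp only [Algebra.smul_def, IsScalarTower.algebraMap_apply B B' (B' ⊗[B] C), map_mul, ι]

end Groth.Agent.NormCpl19
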