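import Groth.Agent.Lib.NormCpl19.Basic
import Groth.Agent.Lib.GRing6.ReducedCpl
import Groth.Agent.Lib.FlatDepth.FibBC

/-!
# Completion of a finite algebra along the extended maximal ideal
-/

set_option autoImplicit false
set_option linter.style.haveILetI false
universe u

open IsLocalRing TensorProduct

namespace Groth.Agent.NormCpl19

noncomputable local instance (priority := high) cplAlgebra19 (A : Type u) [CommRing A] [IsLocalRing A] :
    Algebra A (EGA4.Cpl A) :=
  AdicCompletion.instAlgebra _

/-- The completion of a finite algebra along `m C` is its base change to the completion. -/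
theorem nonempty_cplEquiv (A : Type u) [CommRing A] [IsLocalRing A] [IsNoetherianRing A]
    (C : Type u) [CommRing C] [Algebra A C] [Module.Finite A C] :
    Nonempty (AdicCompletion ((maximalIdeal A).map (algebraMap A C)) C ≃+* C ⊗[A] EGA4.Cpl A) := by
  let Ah := EGA4.Cpl A
  let T := C ⊗[A] Ah
  haveI := CplLocH7.faithfullyFlat_cpl A
  haveI : IsNoetherianRing Ah := CplLocH7.isNoetherianRing_cpl A
  let mC := (maximalIdeal A).map (algebraMap A C)
  letI : Algebra Ah T := Algebra.TensorProduct.rightAlgebra
  haveI : IsScalarTower A Ah T := Algebra.TensorProduct.right_isScalarTower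
  haveI : Module.Finite Ah T :=
    Module.Finite.equiv (Algebra.TensorProduct.commRight A Ah C).toLinearEquiv
  haveI : IsAdicComplete (maximalIdeal A |>.map (algebraMap A Ah)) Ah :=
    (IsAdicComplete.map_algebraMap_iff _ _).2 (AdicCompletion.isAdicComplete (IsNoetherian.noetherian _))
  haveI : IsAdicComplete (((maximalIdeal A).map (algebraMap A Ah)).map (algebraMap Ah T)) T :=
    (IsAdicComplete.map_algebraMap_iff _ _).2 (Compl.isAdicComplete_of_finite _ T)
  let ψ : C →+* T := algebraMap C T
  have hmT : mC.map ψ = ((maximalIdeal A).map (algebraMap A Ah)).map (algebraMap Ah T) := by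
    show ((maximalIdeal A).map (algebraMap A C)).map ψ = _
    rw [Ideal.map_map, Ideal.map_map, ← IsScalarTower.algebraMap_eq, ← IsScalarTower.algebraMap_eq]
  haveI : IsAdicComplete (mC.map ψ) T := hmT ▸ inferInstance
  haveI : Module.FaithfullyFlat C T := inferInstance
  refine (Compl.exists_ringEquiv_adicCompletion mC ψ (fun n c => ?_) (fun n g hg => ?_)).elim fun e _ => ⟨e.symm⟩
  · induction c using TensorProduct.induction_on with
    | zero => exact ⟨0, by simp⟩
    | add a b ha hb =>
      obtain ⟨g, hg⟩ := ha; obtain ⟨g', hg'⟩ := hb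
      exact ⟨g + g', by rw [map_add, add_sub_add_comm]; exact add_mem hg hg'⟩
    | tmul x y =>
      obtain ⟨a, ha⟩ := CplLocH7.exists_sub_mem_pow (A := A) n y
      rw [CplLocH7.maximalIdeal_cpl, ← Ideal.map_pow] at ha
      refine ⟨x * algebraMap A C a, ?_⟩
      have h1 : x ⊗ₜ[A] y - ψ (x * algebraMap A C a) = algebraMap C T x * algebraMap Ah T (y - algebraMap A Ah a) := by
        rw [map_sub, mul_sub, ← IsScalarTower.algebraMap_apply, map_mul, ← IsScalarTower.algebraMap_apply]
        congr 1
        show x ⊗ₜ[A] y = (x ⊗ₜ[A] (1 : Ah)) * ((1 : C) ⊗ₜ[A] y)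
        rw [Algebra.TensorProduct.tmul_mul_tmul, mul_one, one_mul]
      rw [h1]
      refine Ideal.mul_mem_left _ _ ?_
      have h2 := Ideal.mem_map_of_mem (algebraMap Ah T) ha
      rw [Ideal.map_map, ← IsScalarTower.algebraMap_eq, Ideal.map_pow] at h2
      rw [hmT, Ideal.map_map, ← IsScalarTower.algebraMap_eq]
      exact h2
  · rw [← Ideal.map_pow, ← Ideal.mem_comap, Ideal.comap_map_eq_self_of_faithfullyFlat] at hg
    exact hg

/-- Normality of the completion descends to a normal finite subalgebra. -/
theorem isNormalRing_tensor_cpl_sub (A : Type u) [CommRing A] [IsLocalRing A] [IsNoetherianRing A]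
    (B C : Type u) [CommRing B] [CommRing C] [Algebra A B] [Algebra A C] [Algebra B C] [IsScalarTower A B C]
    [Module.Finite A B] [Module.Finite A C] (hinj : Function.Injective (algebraMap B C))
    (hB : EGA4.IsNormalRing B) (hC : EGA4.IsNormalRing (C ⊗[A] EGA4.Cpl A)) :
    EGA4.IsNormalRing (AdicCompletion ((maximalIdeal A).map (algebraMap A B)) B) := by
  haveI := CplLocH7.faithfullyFlat_cpl A
  haveI : IsNoetherianRing (EGA4.Cpl A) := CplLocH7.isNoetherianRing_cpl A
  haveI : IsNoetherianRing B := IsNoetherianRing.of_finite A B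
  haveI : IsNoetherianRing (B ⊗[A] EGA4.Cpl A) :=
    FlatDepth.isNoetherianRing_baseChange A (EGA4.Cpl A) B (Or.inr inferInstance)
  haveI : Module.Finite B C := Module.Finite.of_restrictScalars_finite A B C
  obtain ⟨e⟩ := nonempty_cplEquiv A B
  refine FlatDepth.isNormalRing_of_ringEquiv e.symm (isNormalRing_of_flat_of_finite B _ C hinj hB ?_)
  exact FlatDepth.isNormalRing_of_ringEquiv
    (((Algebra.TensorProduct.cancelBaseChange A B B C (EGA4.Cpl A)).symm.toRingEquiv).trans
      (Algebra.TensorProduct.comm B C (B ⊗[A] EGA4.Cpl A)).toRingEquiv) hC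

end Groth.Agent.NormCpl19
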